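import Mathlib
import Groth.Agent.ClSubLib.Annihilator
import Groth.Agent.PullbackMod.OpenLocus

/-! Nakayama-type non-vanishing of tensor products over local rings; supports of inverse images. -/

set_option autoImplicit false
universe u

open CategoryTheory AlgebraicGeometry TopologicalSpace
open scoped TensorProduct

namespace Groth.Agent.SuppLib

theorem exists_surjective_residue {R : Type u} [CommRing R] [IsLocalRing R] (M : Type u) [AddCommGroup M]
    [Module R M] [Module.Finite R M] [Nontrivial M] :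
    ∃ f : M →ₗ[R] R ⧸ IsLocalRing.maximalIdeal R, Function.Surjective f := by
  haveI : IsCoatomic (Submodule R M) :=
    CompleteLattice.coatomic_of_top_compact ((Submodule.fg_iff_compact _).mp Module.Finite.fg_top)
  obtain h | ⟨P, hP, -⟩ := eq_top_or_exists_le_coatom (⊥ : Submodule R M)
  · exact absurd h bot_ne_top
  haveI := isSimpleModule_iff_isCoatom.mpr hP
  obtain ⟨I, hI, ⟨e⟩⟩ := isSimpleModule_iff_quot_maximal.mp (inferInstance : IsSimpleModule R (M ⧸ P))
  obtain rfl := IsLocalRing.eq_maximalIdeal hI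
  exact ⟨e.toLinearMap ∘ₗ P.mkQ, e.surjective.comp P.mkQ_surjective⟩

theorem nontrivial_tensor_of_isLocalRing {R : Type u} [CommRing R] [IsLocalRing R] (M N : Type u)
    [AddCommGroup M] [Module R M] [Module.Finite R M] [Nontrivial M]
    [AddCommGroup N] [Module R N] [Module.Finite R N] [Nontrivial N] : Nontrivial (M ⊗[R] N) := by
  obtain ⟨f, hf⟩ := exists_surjective_residue (R := R) M
  obtain ⟨g, hg⟩ := exists_surjective_residue (R := R) N
  let h : M ⊗[R] N →ₗ[R] R ⧸ IsLocalRing.maximalIdeal R :=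
    LinearMap.mul' R (R ⧸ IsLocalRing.maximalIdeal R) ∘ₗ TensorProduct.map f g
  obtain ⟨m, hm⟩ := hf 1
  obtain ⟨n, hn⟩ := hg 1
  refine nontrivial_of_ne (m ⊗ₜ n) 0 fun e => ?_
  have h1 := congrArg h e
  simp [h, hm, hn] at h1

theorem nontrivial_baseChange_of_isLocalHom {R S : Type u} [CommRing R] [CommRing S] [IsLocalRing R]
    [IsLocalRing S] [Algebra R S] [IsLocalHom (algebraMap R S)] (M : Type u) [AddCommGroup M] [Module R M]
    [Module.Finite R M] [Nontrivial M] : Nontrivial (S ⊗[R] M) := by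
  obtain ⟨f, hf⟩ := exists_surjective_residue (R := R) M
  have hle : IsLocalRing.maximalIdeal R ≤ (IsLocalRing.maximalIdeal S).comap (algebraMap R S) := fun a ha => by
    rw [Ideal.mem_comap]
    exact fun h => ha (isUnit_of_map_unit (algebraMap R S) a h)
  let κ := S ⧸ IsLocalRing.maximalIdeal S
  let q : (R ⧸ IsLocalRing.maximalIdeal R) →ₐ[R] κ :=
    Ideal.Quotient.liftₐ _ (Algebra.ofId R κ) fun a ha => by
      change Ideal.Quotient.mk _ (algebraMap R S a) = 0
      exact Ideal.Quotient.eq_zero_iff_mem.mpr (hle ha)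
  let p : S →ₐ[R] κ := Ideal.Quotient.mkₐ R _
  let h : S ⊗[R] M →ₗ[R] κ :=
    LinearMap.mul' R κ ∘ₗ TensorProduct.map p.toLinearMap (q.toLinearMap ∘ₗ f)
  obtain ⟨m, hm⟩ := hf 1
  refine nontrivial_of_ne ((1 : S) ⊗ₜ[R] m) 0 fun e => ?_
  have h1 := congrArg h e
  simp [h, hm, p, q] at h1

variable {X X' : Scheme.{u}}

theorem support_pullback (g : X' ⟶ X) (M : X.Modules) [Coh.IsQCoh M] (hM : CohB1.IsFT M) :
    CohB1.support ((Scheme.Modules.pullback g).obj M) = g ⁻¹' CohB1.support M := by
  refine Set.Subset.antisymm (ClSubLib.support_pullback_subset g M) fun x' hx' hs => ?_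
  letI := (g.stalkMap x').hom.toAlgebra
  haveI : IsLocalHom (algebraMap (X.presheaf.stalk (g x')) (X'.presheaf.stalk x')) :=
    inferInstanceAs (IsLocalHom (g.stalkMap x').hom)
  obtain ⟨φ, -⟩ := PullbackMod.exists_pullback_stalk_equiv g M x'
  haveI : Nontrivial (M.presheaf.stalk (g x')) := not_subsingleton_iff_nontrivial.1 hx'
  haveI := PullbackMod.finite_stalk_of_isFT hM (g x')
  haveI := nontrivial_baseChange_of_isLocalHom (R := X.presheaf.stalk (g x')) (S := X'.presheaf.stalk x') (M.presheaf.stalk (g x'))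
  exact not_subsingleton_iff_nontrivial.2 φ.symm.toEquiv.nontrivial hs

theorem finite_stalk_pullback (g : X' ⟶ X) (M : X.Modules) [Coh.IsQCoh M] (hM : CohB1.IsFT M) (x' : X') :
    Module.Finite (X'.presheaf.stalk x') (((Scheme.Modules.pullback g).obj M).presheaf.stalk x') := by
  letI := (g.stalkMap x').hom.toAlgebra
  obtain ⟨φ, -⟩ := PullbackMod.exists_pullback_stalk_equiv g M x'
  haveI := PullbackMod.finite_stalk_of_isFT hM (g x')
  exact Module.Finite.equiv φ

end Groth.Agent.SuppLib
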